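import Cfsg.Agent.H198.TriSpec
import Cfsg.Agent.H161.OctSL
import Cfsg.Agent.LieClassical.OrthFinite
set_option linter.all false

/-!
# Semilinear octonion automorphisms of order three (helper752)

`semi_normal` : a semilinear automorphism `τ` of the split octonions over a finite field, `τ³ = 1`, with field automorphism
`σ ≠ 1`, is conjugate to the standard one `fG σ`.
-/

set_option autoImplicit false

namespace Cfsg.Agent.H752.SemiNormal

open Module QuadraticMap Cfsg.Agent.LieClassical.OrthCore Cfsg.Agent.LieClassical.OrthTrans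
  Cfsg.Agent.LieClassical.OrthSimple Cfsg.Agent.ClassicalGeometry.OrthAut1
  Cfsg.Agent.ClassicalGeometry.OrthSemi Cfsg.Agent.H198.Classes
  Cfsg.Agent.LieClassical.QuadForms Cfsg.Agent.H198.ClassesPlus
  Cfsg.Agent.ClassicalGeometry.TrialityOct Cfsg.Agent.ClassicalGeometry.Triality
  Cfsg.Agent.ClassicalGeometry.TrialitySpaces Cfsg.Agent.H198.TriBase Cfsg.Agent.H198.TriAut
  Cfsg.Agent.H206.Balance Cfsg.Agent.H198.BalVar Cfsg.Agent.H198.TriDia Cfsg.Agent.H198.TriSpec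

universe u

variable {F : Type u} [Field F]

/-! ### Fixed vectors of semilinear maps of order three -/

/-- Independence of `1, σ, σ²`. -/
theorem dedekind {σ : F ≃+* F} (h3 : ∀ a, σ (σ (σ a)) = a) (hne : σ ≠ RingEquiv.refl F) {a b d : F}
    (h : ∀ c : F, c * a + σ c * b + σ (σ c) * d = 0) : a = 0 := by
  obtain ⟨s, hs⟩ : ∃ s, σ s ≠ s := by
    by_contra hcon
    push Not at hcon
    exact hne (RingEquiv.ext hcon)
  have hs2 : σ (σ s) ≠ s := by
    intro h1
    apply hs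
    have := congrArg σ h1
    rw [h3] at this
    exact this.symm
  -- eliminate `a`
  have e2 : ∀ c : F, (σ s - s) * b * σ c + (σ (σ s) - s) * d * σ (σ c) = 0 := by
    intro c
    have h1 := h (s * c)
    have h2 := h c
    rw [map_mul, map_mul] at h1
    linear_combination h1 - s * h2
  have e1 := e2 1
  rw [map_one, map_one, mul_one, mul_one] at e1
  have e3 := e2 (σ (σ s))
  rw [h3] at e3
  have hb : (σ s - s) * b = 0 := by
    have h4 : (σ s - s) * b * (s - σ s) = 0 := by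
      linear_combination e3 - σ s * e1
    rcases mul_eq_zero.1 h4 with h5 | h5
    · exact h5
    · exact absurd (sub_eq_zero.1 h5).symm hs
  have hb0 : b = 0 := (mul_eq_zero.1 hb).resolve_left (sub_ne_zero.2 hs)
  have hd0 : d = 0 := by
    rw [hb, zero_add] at e1
    exact (mul_eq_zero.1 e1).resolve_left (sub_ne_zero.2 hs2)
  have h6 := h 1
  rw [hb0, hd0, mul_zero, mul_zero, add_zero, add_zero, one_mul] at h6
  exact h6

/-- A functional which does not vanish on an invariant subspace does not vanish on its fixed vectors. -/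
theorem exists_fix {V : Type*} [AddCommGroup V] [Module F V] {σ : F ≃+* F} (h3 : ∀ a, σ (σ (σ a)) = a)
    (hne : σ ≠ RingEquiv.refl F) {t : V → V} (hadd : ∀ x y, t (x + y) = t x + t y)
    (hsmul : ∀ (c : F) (x : V), t (c • x) = σ c • t x) (ht3 : ∀ x, t (t (t x)) = x) (U : Submodule F V)
    (hU : ∀ x ∈ U, t x ∈ U) (f : V →ₗ[F] F) {x : V} (hx : x ∈ U) (hfx : f x ≠ 0) :
    ∃ y ∈ U, t y = y ∧ f y ≠ 0 := by
  by_contra hcon
  push Not at hcon
  apply hfx
  refine dedekind h3 hne (b := f (t x)) (d := f (t (t x))) fun c => ?_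
  have h1 := hcon (c • x + t (c • x) + t (t (c • x)))
    (U.add_mem (U.add_mem (U.smul_mem c hx) (hU _ (U.smul_mem c hx))) (hU _ (hU _ (U.smul_mem c hx)))) (by
      rw [hadd, hadd, ht3]
      abel)
  rw [map_add, map_add, hsmul, hsmul, map_smul, map_smul, map_smul, smul_eq_mul, smul_eq_mul, smul_eq_mul] at h1
  exact h1

/-! ### Zorn coordinates -/

/-- the Zorn coordinates -/
def zo (x : V8 F) : Fin 8 → F :=
  ![x (.inl 0), x (.inl 1), x (.inl 2), x (.inl 3), -x (.inr 1), -x (.inr 2), -x (.inr 3), x (.inr 0)]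

/-- the inverse of `zo` -/
def oz (y : Fin 8 → F) : V8 F := Sum.elim ![y 0, y 1, y 2, y 3] ![y 7, -y 4, -y 5, -y 6]

theorem zo_oz (y : Fin 8 → F) : zo (oz y) = y := by
  apply H161.Oct.ext8 <;> simp [zo, oz]

theorem oz_zo (x : V8 F) : oz (zo x) = x := by
  apply ext8 <;> simp [zo, oz]

theorem zo_omul (x y : V8 F) : zo (omul x y) = Cfsg.Lie.zornMul (zo x) (zo y) := by
  apply H161.Oct.ext8 <;>
  simp only [zo, H161.Oct.mul0, H161.Oct.mul1, H161.Oct.mul2, H161.Oct.mul3, H161.Oct.mul4, H161.Oct.mul5,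
    H161.Oct.mul6, H161.Oct.mul7, omul_l0, omul_l1, omul_l2, omul_l3, omul_r0, omul_r1, omul_r2, omul_r3,
    Matrix.cons_val_zero, Matrix.cons_val_one, Matrix.cons_val] <;>
  ring

theorem oz_mul (x y : Fin 8 → F) : oz (Cfsg.Lie.zornMul x y) = omul (oz x) (oz y) := by
  have h := zo_omul (oz x) (oz y)
  rw [zo_oz, zo_oz] at h
  rw [← h, oz_zo]

theorem zo_add (x y : V8 F) : zo (x + y) = zo x + zo y := by
  apply H161.Oct.ext8 <;> simp [zo] <;> ring

theorem zo_smul (c : F) (x : V8 F) : zo (c • x) = c • zo x := by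
  apply H161.Oct.ext8 <;> simp [zo]

theorem oz_add (x y : Fin 8 → F) : oz (x + y) = oz x + oz y := by
  apply ext8 <;> simp [oz] <;> ring

theorem oz_smul (c : F) (x : Fin 8 → F) : oz (c • x) = c • oz x := by
  apply ext8 <;> simp [oz]

theorem norm_oz (y : Fin 8 → F) : plusForm 4 F (oz y) = H161.Oct.nm y := by
  rw [norm8]
  simp only [oz, H161.Oct.nm, Sum.elim_inl, Sum.elim_inr, Matrix.cons_val_zero, Matrix.cons_val_one, Matrix.cons_val]
  ring

theorem nm_zo (x : V8 F) : H161.Oct.nm (zo x) = plusForm 4 F x := by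
  rw [← norm_oz, oz_zo]

/-- the permutation of `V8 F` given by an automorphism -/
def liP (h : H161.Oct.V F ≃ₗ[F] H161.Oct.V F) : Equiv.Perm (V8 F) where
  toFun x := oz (h (zo x))
  invFun x := oz (h.symm (zo x))
  left_inv x := by
    change oz (h.symm (zo (oz (h (zo x))))) = x
    rw [zo_oz, LinearEquiv.symm_apply_apply, oz_zo]
  right_inv x := by
    change oz (h (zo (oz (h.symm (zo x))))) = x
    rw [zo_oz, LinearEquiv.apply_symm_apply, oz_zo]

theorem isSS_liP {h : H161.Oct.V F ≃ₗ[F] H161.Oct.V F} (hh : h ∈ H161.Oct.AutO F) :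
    IsSS (plusForm 4 F) (RingEquiv.refl F) 1 (liP h) := by
  refine ⟨one_ne_zero, fun u v => ?_, fun c v => ?_, fun v => ?_⟩
  · change oz (h (zo (u + v))) = _
    rw [zo_add, map_add, oz_add]
    rfl
  · change oz (h (zo (c • v))) = c • oz (h (zo v))
    rw [zo_smul, map_smul, oz_smul]
  · change plusForm 4 F (oz (h (zo v))) = 1 * plusForm 4 F v
    rw [norm_oz, H161.Oct.map_nm hh, nm_zo, one_mul]

/-- the octonion automorphism as a similarity -/
def liG {h : H161.Oct.V F ≃ₗ[F] H161.Oct.V F} (hh : h ∈ H161.Oct.AutO F) : G8 F := ⟨liP h, _, _, isSS_liP hh⟩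

theorem liG_apply {h : H161.Oct.V F ≃ₗ[F] H161.Oct.V F} (hh : h ∈ H161.Oct.AutO F) (x : V8 F) :
    (liG hh).1 x = oz (h (zo x)) := rfl

theorem tri_liG {h : H161.Oct.V F ≃ₗ[F] H161.Oct.V F} (hh : h ∈ H161.Oct.AutO F) :
    TriS (liG hh) (liG hh) (liG hh) := by
  intro x y
  rw [liG_apply, liG_apply, liG_apply, zo_omul, H161.Oct.mem_AutO.1 hh, oz_mul]

/-- the first idempotent -/
def E1 (F : Type u) [Field F] : V8 F := Pi.single (.inl 0) 1

/-- automorphisms are transitive on the idempotents of norm zero and trace one -/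
theorem exists_aut {e : V8 F} (h1 : e (.inl 0) + e (.inr 0) = 1) (h0 : plusForm 4 F e = 0) :
    ∃ N : G8 F, TriS N N N ∧ IsSS (plusForm 4 F) (RingEquiv.refl F) 1 N.1 ∧ N.1 e = E1 F := by
  obtain ⟨h, hh, he⟩ := H161.Oct.exists_idem (e := zo e) (by
    rw [H161.Oct.tr]; exact h1) (by rw [nm_zo]; exact h0)
  refine ⟨liG hh, tri_liG hh, isSS_liP hh, ?_⟩
  rw [liG_apply, he]
  apply ext8 <;> simp [oz, H161.Oct.e1, E1]

/-- the basis vectors -/
abbrev bs (i : Fin 4 ⊕ Fin 4) : V8 F := Pi.single i 1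

theorem decomp (x : V8 F) : x = x (.inl 0) • bs (.inl 0) + x (.inl 1) • bs (.inl 1) + x (.inl 2) • bs (.inl 2) +
    x (.inl 3) • bs (.inl 3) + x (.inr 0) • bs (.inr 0) + x (.inr 1) • bs (.inr 1) + x (.inr 2) • bs (.inr 2) +
    x (.inr 3) • bs (.inr 3) := by
  apply ext8 <;> simp

theorem map_decomp {σ : F ≃+* F} {c : F} {ρ : G8 F} (hs : IsSS (plusForm 4 F) σ c ρ.1)
    (h : ∀ i, ρ.1 (bs i) = bs i) : ρ = fG σ := by
  apply Subtype.ext
  ext1 x
  have h1 : ρ.1 x = (fG σ).1 x := by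
    rw [decomp ((fG σ).1 x)]
    nth_rw 1 [decomp x]
    rw [hs.add, hs.add, hs.add, hs.add, hs.add, hs.add, hs.add, hs.smul, hs.smul, hs.smul, hs.smul, hs.smul, hs.smul,
      hs.smul, hs.smul, h, h, h, h, h, h, h, h]
    rfl
  exact h1

theorem bs_r0 : (bs (.inr 0) : V8 F) = one8 F - bs (.inl 0) := by
  apply ext8 <;> simp [one8]

theorem bs_r3 : (bs (.inr 3) : V8 F) = (-1 : F) • omul (bs (.inl 1)) (bs (.inl 2)) := by
  apply ext8 <;> simp [omul_l0, omul_l1, omul_l2, omul_l3, omul_r0, omul_r1, omul_r2, omul_r3]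

theorem bs_r1 : (bs (.inr 1) : V8 F) = (-1 : F) • omul (bs (.inl 2)) (bs (.inl 3)) := by
  apply ext8 <;> simp [omul_l0, omul_l1, omul_l2, omul_l3, omul_r0, omul_r1, omul_r2, omul_r3]

theorem bs_r2 : (bs (.inr 2) : V8 F) = (-1 : F) • omul (bs (.inl 3)) (bs (.inl 1)) := by
  apply ext8 <;> simp [omul_l0, omul_l1, omul_l2, omul_l3, omul_r0, omul_r1, omul_r2, omul_r3]

theorem eq_fG {σ : F ≃+* F} {c : F} {ρ : G8 F} (hρ : TriS ρ ρ ρ) (hs : IsSS (plusForm 4 F) σ c ρ.1)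
    (h0 : ρ.1 (bs (.inl 0)) = bs (.inl 0)) (h1 : ρ.1 (bs (.inl 1)) = bs (.inl 1))
    (h2 : ρ.1 (bs (.inl 2)) = bs (.inl 2)) (h3 : ρ.1 (bs (.inl 3)) = bs (.inl 3)) : ρ = fG σ := by
  refine map_decomp hs ?_
  rintro (i | i) <;> fin_cases i
  · exact h0
  · exact h1
  · exact h2
  · exact h3
  · change ρ.1 (bs (.inr 0)) = bs (.inr 0)
    rw [bs_r0, hs.sub, aut_one hρ, h0]
  · change ρ.1 (bs (.inr 1)) = bs (.inr 1)
    rw [bs_r1, hs.smul, hρ, h2, h3, map_neg, map_one]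
  · change ρ.1 (bs (.inr 2)) = bs (.inr 2)
    rw [bs_r2, hs.smul, hρ, h3, h1, map_neg, map_one]
  · change ρ.1 (bs (.inr 3)) = bs (.inr 3)
    rw [bs_r3, hs.smul, hρ, h1, h2, map_neg, map_one]

/-! ### The main argument -/

section main

variable {τ : G8 F} {σ : F ≃+* F}

theorem tau3 (ho : τ ^ 3 = 1) (x : V8 F) : τ.1 (τ.1 (τ.1 x)) = x := by
  have h := congrArg (fun z : G8 F => z.1 x) ho
  exact h

theorem sigma3 {c : F} (hs : IsSS (plusForm 4 F) σ c τ.1) (ho : τ ^ 3 = 1) (a : F) : σ (σ (σ a)) = a := by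
  have h := tau3 ho (a • one8 F)
  rw [hs.smul, hs.smul, hs.smul, tau3 ho] at h
  have h1 := congrFun h (.inl 0)
  simpa [one8] using h1

/-- the norm of a combination of three vectors -/
theorem norm_comb (a b c : F) (u y z : V8 F) : plusForm 4 F (a • u + b • y + c • z) =
    plusForm 4 F u * a ^ 2 + plusForm 4 F y * b ^ 2 + plusForm 4 F z * c ^ 2 + polar (plusForm 4 F) u y * (a * b) +
      polar (plusForm 4 F) u z * (a * c) + polar (plusForm 4 F) y z * (b * c) := by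
  simp only [norm8, polar8, Pi.add_apply, Pi.smul_apply, smul_eq_mul]
  ring

/-- a fixed vector of norm zero -/
theorem exists_null [Finite F] (hτ : TriS τ τ τ) (hs : IsSS (plusForm 4 F) σ 1 τ.1) (hσ : σ ≠ RingEquiv.refl F)
    (ho : τ ^ 3 = 1) : ∃ x : V8 F, τ.1 x = x ∧ x ≠ 0 ∧ plusForm 4 F x = 0 := by
  have h3 := sigma3 hs ho
  have ht3 := tau3 ho
  obtain ⟨y, -, hy, hy1⟩ := exists_fix h3 hσ hs.add hs.smul ht3 ⊤ (fun _ _ => Submodule.mem_top)
    (LinearMap.proj (.inl 1) : V8 F →ₗ[F] F) (x := bs (.inl 1)) Submodule.mem_top (by simp)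
  obtain ⟨z, -, hz, hz1⟩ := exists_fix h3 hσ hs.add hs.smul ht3 ⊤ (fun _ _ => Submodule.mem_top)
    ((y (.inl 1)) • (LinearMap.proj (.inl 2) : V8 F →ₗ[F] F) - (y (.inl 2)) • (LinearMap.proj (.inl 1) : V8 F →ₗ[F] F))
    (x := bs (.inl 2)) Submodule.mem_top (by simpa using hy1)
  rw [LinearMap.proj_apply] at hy1
  simp only [LinearMap.sub_apply, LinearMap.smul_apply, LinearMap.proj_apply, smul_eq_mul] at hz1
  have h1 := aut_one hτ
  let F0 : Subfield F := RingHom.eqLocusField (σ : F →+* F) (RingHom.id F)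
  have hN : ∀ v : V8 F, τ.1 v = v → plusForm 4 F v ∈ F0 := by
    intro v hv
    have := hs.form v
    rw [hv, one_mul] at this
    exact this.symm
  have hP : ∀ v w : V8 F, τ.1 v = v → τ.1 w = w → polar (plusForm 4 F) v w ∈ F0 := by
    intro v w hv hw
    have := hs.polar v w
    rw [hv, hw, one_mul] at this
    exact this.symm
  obtain ⟨x, hx0, hx⟩ := Cfsg.Agent.LieClassical.OrthFinite.exists_ternary_zero (F := F0) ⟨_, hN _ h1⟩ ⟨_, hN _ hy⟩ ⟨_, hN _ hz⟩
    ⟨_, hP _ _ h1 hy⟩ ⟨_, hP _ _ h1 hz⟩ ⟨_, hP _ _ hy hz⟩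
  refine ⟨(x 0 : F) • one8 F + (x 1 : F) • y + (x 2 : F) • z, ?_, ?_, ?_⟩
  · rw [hs.add, hs.add, hs.smul, hs.smul, hs.smul, h1, hy, hz]
    have hf : ∀ i, σ (x i : F) = x i := fun i => (x i).2
    rw [hf, hf, hf]
  · intro h0
    have c1 := congrFun h0 (.inl 1)
    have c2 := congrFun h0 (.inl 2)
    have c0 := congrFun h0 (.inl 0)
    simp only [Pi.add_apply, Pi.smul_apply, smul_eq_mul, one8, Sum.elim_inl, Matrix.cons_val_zero, Matrix.cons_val_one,
      Matrix.cons_val, Pi.zero_apply] at c0 c1 c2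
    have e2 : (x 2 : F) = 0 := by
      have : (x 2 : F) * (y (.inl 1) * z (.inl 2) - y (.inl 2) * z (.inl 1)) = 0 := by
        linear_combination y (.inl 1) * c2 - y (.inl 2) * c1
      exact (mul_eq_zero.1 this).resolve_right hz1
    rw [e2] at c0 c1
    have e1 : (x 1 : F) = 0 := by
      have : (x 1 : F) * y (.inl 1) = 0 := by linear_combination c1
      exact (mul_eq_zero.1 this).resolve_right hy1
    rw [e1] at c0
    have e0 : (x 0 : F) = 0 := by linear_combination c0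
    apply hx0
    funext i
    apply Subtype.ext
    fin_cases i
    · exact e0
    · exact e1
    · exact e2
  · rw [norm_comb]
    have := congrArg (Subtype.val : F0 → F) hx
    exact this

/-- the trace of the product as a functional -/
def trL (x : V8 F) : V8 F →ₗ[F] F where
  toFun y := omul x y (.inl 0) + omul x y (.inr 0)
  map_add' y z := by
    rw [omul_add]
    simp only [Pi.add_apply]
    ring
  map_smul' c y := by
    rw [omul_smul]
    simp only [Pi.smul_apply, smul_eq_mul, RingHom.id_apply]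
    ring

theorem trL_apply (x y : V8 F) : trL x y = omul x y (.inl 0) + omul x y (.inr 0) := rfl

theorem exists_trL {x : V8 F} (hx : x ≠ 0) : ∃ y, trL x y ≠ 0 := by
  by_contra hcon
  push Not at hcon
  apply hx
  have h : ∀ i, trL x (bs i) = 0 := fun i => hcon _
  apply ext8
  · have := h (.inl 0); rw [trL_apply, omul_l0, omul_r0] at this; simpa using this
  · have := h (.inr 1); rw [trL_apply, omul_l0, omul_r0] at this; simpa using this
  · have := h (.inr 2); rw [trL_apply, omul_l0, omul_r0] at this; simpa using this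
  · have := h (.inr 3); rw [trL_apply, omul_l0, omul_r0] at this; simpa using this
  · have := h (.inr 0); rw [trL_apply, omul_l0, omul_r0] at this; simpa using this
  · have := h (.inl 1); rw [trL_apply, omul_l0, omul_r0] at this; simpa using this
  · have := h (.inl 2); rw [trL_apply, omul_l0, omul_r0] at this; simpa using this
  · have := h (.inl 3); rw [trL_apply, omul_l0, omul_r0] at this; simpa using this

/-- a fixed idempotent -/
theorem exists_idem_fix [Finite F] (hτ : TriS τ τ τ) (hs : IsSS (plusForm 4 F) σ 1 τ.1) (hσ : σ ≠ RingEquiv.refl F)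
    (ho : τ ^ 3 = 1) : ∃ e : V8 F, τ.1 e = e ∧ e (.inl 0) + e (.inr 0) = 1 ∧ plusForm 4 F e = 0 := by
  have h3 := sigma3 hs ho
  have ht3 := tau3 ho
  obtain ⟨x, hx, hx0, hxn⟩ := exists_null hτ hs hσ ho
  obtain ⟨w, hw⟩ := exists_trL hx0
  obtain ⟨y, -, hy, hy1⟩ := exists_fix h3 hσ hs.add hs.smul ht3 ⊤ (fun _ _ => Submodule.mem_top) (trL x) (x := w)
    Submodule.mem_top hw
  have hxy : τ.1 (omul x y) = omul x y := by rw [hτ, hx, hy]
  set t : F := omul x y (.inl 0) + omul x y (.inr 0) with ht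
  rw [trL_apply, ← ht] at hy1
  have hst : σ t = t := by
    have h1 := hs.polar (omul x y) (one8 F)
    rw [hxy, aut_one hτ, one_mul, polar8] at h1
    have h2 : polar (plusForm 4 F) (omul x y) (one8 F) = t := by
      rw [polar8, ht]
      simp [one8]
    rw [polar8] at h2
    rw [h2] at h1
    exact h1.symm
  refine ⟨t⁻¹ • omul x y, ?_, ?_, ?_⟩
  · rw [hs.smul, hxy, map_inv₀, hst]
  · rw [Pi.smul_apply, Pi.smul_apply, smul_eq_mul, smul_eq_mul, ← mul_add, ← ht, inv_mul_cancel₀ hy1]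
  · rw [QuadraticMap.map_smul, norm_omul, hxn, zero_mul, smul_zero]

/-- the space spanned by the first three nilpotent basis vectors -/
def Us (F : Type u) [Field F] : Submodule F (V8 F) where
  carrier := {x | omul (bs (.inl 0)) x = x ∧ omul x (bs (.inl 0)) = 0}
  add_mem' := by
    rintro x y ⟨h1, h2⟩ ⟨h3, h4⟩
    exact ⟨by rw [omul_add, h1, h3], by rw [add_omul, h2, h4, add_zero]⟩
  zero_mem' := by
    constructor
    · have := omul_smul (0 : F) (bs (.inl 0)) (0 : V8 F)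
      rwa [zero_smul, zero_smul] at this
    · have := smul_omul (0 : F) (0 : V8 F) (bs (.inl 0))
      rwa [zero_smul, zero_smul] at this
  smul_mem' := by
    rintro c x ⟨h1, h2⟩
    exact ⟨by rw [omul_smul, h1], by rw [smul_omul, h2, smul_zero]⟩

theorem mem_Us {x : V8 F} : x ∈ Us F ↔ x (.inl 0) = 0 ∧ x (.inr 0) = 0 ∧ x (.inr 1) = 0 ∧ x (.inr 2) = 0 ∧
    x (.inr 3) = 0 := by
  constructor
  · rintro ⟨h1, h2⟩
    have c0 := congrFun h2 (.inl 0)
    have d0 := congrFun h1 (.inr 0)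
    have d1 := congrFun h1 (.inr 1)
    have d2 := congrFun h1 (.inr 2)
    have d3 := congrFun h1 (.inr 3)
    rw [omul_l0] at c0
    rw [omul_r0] at d0
    rw [omul_r1] at d1
    rw [omul_r2] at d2
    rw [omul_r3] at d3
    simp at c0 d0 d1 d2 d3
    exact ⟨c0, d0.symm, d1.symm, d2.symm, d3.symm⟩
  · rintro ⟨h0, k0, k1, k2, k3⟩
    constructor
    · apply ext8 <;> simp [omul_l0, omul_l1, omul_l2, omul_l3, omul_r0, omul_r1, omul_r2, omul_r3, h0, k0, k1, k2, k3]
    · apply ext8 <;> simp [omul_l0, omul_l1, omul_l2, omul_l3, omul_r0, omul_r1, omul_r2, omul_r3, h0, k0, k1, k2, k3]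

/-- the determinant of three vectors of `Us` -/
def dtL (x y : V8 F) : V8 F →ₗ[F] F :=
  (x (.inl 1) * y (.inl 2) - x (.inl 2) * y (.inl 1)) • (LinearMap.proj (.inl 3) : V8 F →ₗ[F] F) -
    (x (.inl 1) * y (.inl 3) - x (.inl 3) * y (.inl 1)) • (LinearMap.proj (.inl 2) : V8 F →ₗ[F] F) +
    (x (.inl 2) * y (.inl 3) - x (.inl 3) * y (.inl 2)) • (LinearMap.proj (.inl 1) : V8 F →ₗ[F] F)

theorem dtL_apply (x y z : V8 F) : dtL x y z =
    (x (.inl 1) * y (.inl 2) - x (.inl 2) * y (.inl 1)) * z (.inl 3) -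
    (x (.inl 1) * y (.inl 3) - x (.inl 3) * y (.inl 1)) * z (.inl 2) +
    (x (.inl 2) * y (.inl 3) - x (.inl 3) * y (.inl 2)) * z (.inl 1) := rfl

theorem tri_prod {x y z : V8 F} (hx : x ∈ Us F) (hy : y ∈ Us F) (hz : z ∈ Us F) :
    omul (omul x y) z = dtL x y z • bs (.inr 0) := by
  rw [mem_Us] at hx hy hz
  obtain ⟨x0, x4, x5, x6, x7⟩ := hx
  obtain ⟨y0, y4, y5, y6, y7⟩ := hy
  obtain ⟨z0, z4, z5, z6, z7⟩ := hz
  rw [dtL_apply]
  apply ext8 <;>
  simp [omul_l0, omul_l1, omul_l2, omul_l3, omul_r0, omul_r1, omul_r2, omul_r3, x0, x4, x5, x6, x7, y0, y4, y5, y6,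
    y7, z0, z4, z5, z6, z7]
  ring

theorem eq_of_Us {x y : V8 F} (hx : x ∈ Us F) (hy : y ∈ Us F) (h1 : x (.inl 1) = y (.inl 1))
    (h2 : x (.inl 2) = y (.inl 2)) (h3 : x (.inl 3) = y (.inl 3)) : x = y := by
  rw [mem_Us] at hx hy
  obtain ⟨x0, x4, x5, x6, x7⟩ := hx
  obtain ⟨y0, y4, y5, y6, y7⟩ := hy
  apply ext8
  · rw [x0, y0]
  · exact h1
  · exact h2
  · exact h3
  · rw [x4, y4]
  · rw [x5, y5]
  · rw [x6, y6]
  · rw [x7, y7]

/-- the normal form when the first idempotent is fixed -/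
theorem of_fix (hτ : TriS τ τ τ) (hs : IsSS (plusForm 4 F) σ 1 τ.1) (hσ : σ ≠ RingEquiv.refl F)
    (ho : τ ^ 3 = 1) (h0 : τ.1 (bs (.inl 0)) = bs (.inl 0)) : ∃ N : G8 F, TriS N N N ∧ N * τ * N⁻¹ = fG σ := by
  have h3 := sigma3 hs ho
  have ht3 := tau3 ho
  have hU : ∀ x ∈ Us F, τ.1 x ∈ Us F := by
    rintro x ⟨h1, h2⟩
    constructor
    · have := hτ (bs (.inl 0)) x
      rw [h1, h0] at this
      exact this.symm
    · have := hτ x (bs (.inl 0))
      rw [h2, h0, hs.map_zero] at this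
      exact this.symm
  have m1 : (bs (.inl 1) : V8 F) ∈ Us F := mem_Us.2 (by simp)
  have m2 : (bs (.inl 2) : V8 F) ∈ Us F := mem_Us.2 (by simp)
  have m3 : (bs (.inl 3) : V8 F) ∈ Us F := mem_Us.2 (by simp)
  obtain ⟨x, hxU, hx, hx1⟩ := exists_fix h3 hσ hs.add hs.smul ht3 (Us F) hU
    (LinearMap.proj (.inl 1) : V8 F →ₗ[F] F) (x := bs (.inl 1)) m1 (by simp)
  obtain ⟨y, hyU, hy, hy1⟩ := exists_fix h3 hσ hs.add hs.smul ht3 (Us F) hU
    ((x (.inl 1)) • (LinearMap.proj (.inl 2) : V8 F →ₗ[F] F) - (x (.inl 2)) • (LinearMap.proj (.inl 1) : V8 F →ₗ[F] F))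
    (x := bs (.inl 2)) m2 (by simpa using hx1)
  simp only [LinearMap.sub_apply, LinearMap.smul_apply, LinearMap.proj_apply, smul_eq_mul] at hy1
  obtain ⟨z, hzU, hz, hz1⟩ := exists_fix h3 hσ hs.add hs.smul ht3 (Us F) hU (dtL x y) (x := bs (.inl 3)) m3 (by
    rw [dtL_apply]
    simpa using hy1)
  set d : F := dtL x y z with hd
  -- `d` is fixed by `σ`
  have e2 : τ.1 (bs (.inr 0)) = bs (.inr 0) := by rw [bs_r0, hs.sub, aut_one hτ, h0]
  have hσd : σ d = d := by
    have h4 := tri_prod hxU hyU hzU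
    have h5 : τ.1 (omul (omul x y) z) = omul (omul x y) z := by rw [hτ, hτ, hx, hy, hz]
    rw [h4, hs.smul, e2, ← hd] at h5
    have := congrFun h5 (.inr 0)
    simpa using this
  have hz' : τ.1 (d⁻¹ • z) = d⁻¹ • z := by rw [hs.smul, map_inv₀, hσd, hz]
  have hzU' : d⁻¹ • z ∈ Us F := (Us F).smul_mem _ hzU
  -- the matrix
  let P : Matrix (Fin 3) (Fin 3) F := !![x (.inl 1), y (.inl 1), d⁻¹ * z (.inl 1);
    x (.inl 2), y (.inl 2), d⁻¹ * z (.inl 2); x (.inl 3), y (.inl 3), d⁻¹ * z (.inl 3)]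
  have hP : P.det = 1 := by
    have h4 : P.det = d⁻¹ * d := by
      have h5 := dtL_apply x y z
      rw [← hd] at h5
      rw [Matrix.det_fin_three]
      change x (.inl 1) * y (.inl 2) * (d⁻¹ * z (.inl 3)) - x (.inl 1) * (d⁻¹ * z (.inl 2)) * y (.inl 3) -
        y (.inl 1) * x (.inl 2) * (d⁻¹ * z (.inl 3)) + y (.inl 1) * (d⁻¹ * z (.inl 2)) * x (.inl 3) +
        d⁻¹ * z (.inl 1) * x (.inl 2) * y (.inl 3) - d⁻¹ * z (.inl 1) * y (.inl 2) * x (.inl 3) = _
      linear_combination (-d⁻¹) * h5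
    rw [h4, inv_mul_cancel₀ hz1]
  set M : G8 F := liG (H161.Oct.sl_mem P hP) with hM
  have hMt : TriS M M M := tri_liG (H161.Oct.sl_mem P hP)
  have hMs : IsSS (plusForm 4 F) (RingEquiv.refl F) 1 M.1 := isSS_liP (H161.Oct.sl_mem P hP)
  have hMa : ∀ v, M.1 v = oz (H161.Oct.slF P (zo v)) := fun v => rfl
  have M0 : M.1 (bs (.inl 0)) = bs (.inl 0) := by
    rw [hMa]
    apply ext8 <;> simp [oz, zo, H161.Oct.slF]
  have M1 : M.1 (bs (.inl 1)) = x := by
    rw [mem_Us] at hxU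
    obtain ⟨x0, x4, x5, x6, x7⟩ := hxU
    rw [hMa]
    apply ext8 <;> simp [oz, zo, H161.Oct.slF, P, x0, x4, x5, x6, x7]
  have M2 : M.1 (bs (.inl 2)) = y := by
    rw [mem_Us] at hyU
    obtain ⟨x0, x4, x5, x6, x7⟩ := hyU
    rw [hMa]
    apply ext8 <;> simp [oz, zo, H161.Oct.slF, P, x0, x4, x5, x6, x7]
  have M3 : M.1 (bs (.inl 3)) = d⁻¹ • z := by
    rw [mem_Us] at hzU'
    obtain ⟨x0, x4, x5, x6, x7⟩ := hzU'
    rw [hMa]
    apply ext8 <;> simp [oz, zo, H161.Oct.slF, P] <;> simp_all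
  refine ⟨M⁻¹, hMt.inv, ?_⟩
  rw [inv_inv]
  obtain ⟨c, hss⟩ : ∃ c, IsSS (plusForm 4 F) σ c (M⁻¹ * τ * M).1 := by
    have h4 := (hMs.inv.mul hs).mul hMs
    have h5 : (RingEquiv.refl F).trans (σ.trans (RingEquiv.refl F).symm) = σ := by
      ext a
      rfl
    rw [h5] at h4
    exact ⟨_, h4⟩
  have key : ∀ v w : V8 F, M.1 v = w → τ.1 w = w → (M⁻¹ * τ * M).1 v = v := by
    intro v w h4 h5
    change M⁻¹.1 (τ.1 (M.1 v)) = v
    rw [h4, h5, ← h4]
    exact M.1.symm_apply_apply v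
  exact eq_fG ((hMt.inv.mul hτ).mul hMt) hss (key _ _ M0 h0) (key _ _ M1 hx) (key _ _ M2 hy) (key _ _ M3 hz')

/-- **Semilinear octonion automorphisms of order three are standard.** -/
theorem semi_normal [Finite F] {τ : G8 F} (hτ : TriS τ τ τ) {σ : F ≃+* F} (hs : IsSS (plusForm 4 F) σ 1 τ.1)
    (hσ : σ ≠ RingEquiv.refl F) (ho : τ ^ 3 = 1) : ∃ N : G8 F, TriS N N N ∧ N * τ * N⁻¹ = fG σ := by
  obtain ⟨e, he, he1, hen⟩ := exists_idem_fix hτ hs hσ ho
  obtain ⟨M, hM, hMs, hMe⟩ := exists_aut he1 hen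
  have hss : IsSS (plusForm 4 F) σ 1 (M * τ * M⁻¹).1 := by
    have h4 := (hMs.mul hs).mul hMs.inv
    have h5 : (RingEquiv.refl F).symm.trans (σ.trans (RingEquiv.refl F)) = σ := by
      ext a
      rfl
    have h6 : (1 : F) * (RingEquiv.refl F) 1 * (σ.trans (RingEquiv.refl F)) ((RingEquiv.refl F).symm (1 : F)⁻¹) = 1 := by
      simp
    rw [h5, h6] at h4
    exact h4
  have hfix : (M * τ * M⁻¹).1 (bs (.inl 0)) = bs (.inl 0) := by
    change M.1 (τ.1 (M⁻¹.1 (bs (.inl 0)))) = bs (.inl 0)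
    have h4 : M⁻¹.1 (bs (.inl 0)) = e := by
      change M⁻¹.1 (E1 F) = e
      rw [← hMe]
      exact M.1.symm_apply_apply e
    rw [h4, he, hMe]
    rfl
  have hcube : (M * τ * M⁻¹) ^ 3 = 1 := by
    rw [conj_pow, ho, mul_one, mul_inv_cancel]
  obtain ⟨N, hN, hN2⟩ := of_fix ((hM.mul hτ).mul hM.inv) hss hσ hcube hfix
  refine ⟨N * M, hN.mul hM, ?_⟩
  rw [← hN2]
  group

end main

end Cfsg.Agent.H752.SemiNormal
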